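import Cfsg.Agent.Lib.FischerMTypes83.Triality.Cross
import Cfsg.Agent.Lib.FischerMTypes.Thirteen.M23
import Cfsg.Agent.Lib.FischerMTypes.Prime.Models

/-!
Type M(24): subgroups of order 13, their fixed transpositions and their normalisers.
-/

set_option autoImplicit false
set_option maxRecDepth 20000
set_option maxHeartbeats 1000000
set_option linter.unusedSectionVars false
set_option linter.style.haveILetI false

namespace Cfsg.Agent.Lib.FischerMTypes83.Triality

open scoped Pointwise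
open Cfsg.Agent.Lib.O8Three.Rep Points Invol
open Cfsg.Agent.Lib.FischerMTypes.Basic Cfsg.Agent.Lib.FischerMTypes.Primitive
open Cfsg.Agent.Lib.FischerMTypes.Eleven (fixed Down mem_cent_perp card_eq_orbit_mul normalizer_conj_fixed
  mem_normalizer_of_conj)
open Cfsg.Agent.Lib.FischerMTypes.PrimeOnce

local instance fact_three'' : Fact (Nat.Prime 3) := ⟨Nat.prime_three⟩
local instance fact_thirteen : Fact (Nat.Prime 13) := ⟨by norm_num⟩
attribute [local instance] finite_T'

set_option synthInstance.maxSize 2000 in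
theorem involutions_three : ∀ u v w : Equiv.Perm (Fin 3), u * u = 1 → u ≠ 1 → v * v = 1 → v ≠ 1 →
    w * w = 1 → w ≠ 1 → (u * v = v * u → u = v) ∧ (u ≠ v → w = u ∨ w = v ∨ w = u * v * u) := by decide

section Prod

variable {G : Type*} [Group G] [Finite G]

theorem card_sup_commute {H S : Subgroup G} (hd : H ⊓ S = ⊥) (hc : ∀ x ∈ H, ∀ y ∈ S, x * y = y * x) :
    Nat.card ↥(H ⊔ S) = Nat.card H * Nat.card S := by
  have hle : H ≤ Subgroup.normalizer (S : Set G) := fun h hh => Subgroup.centralizer_le_normalizer _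
    (Subgroup.mem_centralizer_iff.mpr fun w hw => (hc h hh w hw).symm)
  have e : ((H ⊔ S : Subgroup G) : Set G) = (H : Set G) * (S : Set G) :=
    Subgroup.coe_mul_of_left_le_normalizer_right H S hle
  let f : H × S → (H ⊔ S : Subgroup G) := fun p =>
    ⟨p.1.1 * p.2.1, mul_mem (Subgroup.mem_sup_left p.1.2) (Subgroup.mem_sup_right p.2.2)⟩
  have hf : Function.Bijective f := by
    refine ⟨fun p q h =>
      Subgroup.mul_injective_of_disjoint (disjoint_iff.mpr hd) (congrArg Subtype.val h), ?_⟩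
    rintro ⟨z, hz⟩
    obtain ⟨u, hu, v, hv, rfl⟩ := Set.mem_mul.mp (e ▸ (show z ∈ ((H ⊔ S : Subgroup G) : Set G) from hz))
    exact ⟨(⟨u, hu⟩, ⟨v, hv⟩), rfl⟩
  rw [← Nat.card_eq_of_bijective f hf, Nat.card_prod]

theorem card_le_orbit_mul {H : Subgroup G} {O : Set G} {x : G} (hin : ∀ h ∈ H, h * x * h⁻¹ ∈ O) :
    Nat.card H ≤ O.ncard * Nat.card (H ⊓ Subgroup.centralizer ({x} : Set G) : Subgroup G) := by
  rw [card_eq_orbit_mul (H := H) (O := {y | ∃ h ∈ H, h * x * h⁻¹ = y}) (x := x)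
    (fun h hh => ⟨h, hh, rfl⟩) (fun y hy => hy)]
  refine Nat.mul_le_mul_right _ (Set.ncard_le_ncard ?_ (Set.toFinite _))
  rintro y ⟨h, hh, rfl⟩
  exact hin h hh

end Prod

/-- at a fixed transposition of a subgroup of order 13 -/
structure Near {G : Type*} [Group G] (D : Set G) (B : Subgroup G) (e : G) : Prop where
  eq_of_commute : ∀ x ∈ fixed D B, ∀ y ∈ fixed D B, x ∈ perp D e → y ∈ perp D e → Commute x y → x = y
  three : ∀ x ∈ fixed D B, ∀ y ∈ fixed D B, ∀ w ∈ fixed D B, x ∈ perp D e → y ∈ perp D e → w ∈ perp D e →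
    x ≠ y → w = x ∨ w = y ∨ w = x * y * x
  card : Nat.card (Subgroup.normalizer (B : Set G) ⊓ Subgroup.centralizer ({e} : Set G) : Subgroup G) = 936

theorem near_of_down {G : Type*} [Group G] [Finite G] {D : Set G} {Q : Type*} [Group Q] [Finite Q] {E : Set Q}
    (hD : Cfsg.IsThreeTranspositionGroup D) (hE : Cfsg.IsThreeTranspositionGroup E)
    (h23 : ∀ X : Subgroup Q, Nat.card X = 13 → ∃ H : Subgroup Q, Nat.card H = 78 ∧ X ≤ H ∧
        H ⊓ Subgroup.centralizer (X : Set Q) = X ∧ H ⊓ Subgroup.closure (fixed E X) = ⊥ ∧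
        (∀ x ∈ H, ∀ y ∈ Subgroup.closure (fixed E X), x * y = y * x) ∧
        H ⊔ Subgroup.closure (fixed E X) = Subgroup.normalizer (X : Set Q) ∧
        Nonempty (↥(Subgroup.closure (fixed E X)) ≃* Equiv.Perm (Fin 3)))
    {B : Subgroup G} (hB : Nat.card B = 13) {e : G} (M : Down D e E) (he : e ∈ fixed D B) :
    Near D B e := by
  have hodd : Odd 13 := by decide
  have hBe : B ≤ Subgroup.centralizer ({e} : Set G) := fun u hu =>
    Subgroup.mem_centralizer_singleton_iff.mpr (Subgroup.mem_centralizer_iff.mp he.2 u hu)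
  obtain ⟨H, hH, -, -, hdis, hcom, hsup, ⟨ι⟩⟩ := h23 _ (card_img M hodd hB hBe)
  set Y := img M B
  have himg : ∀ x ∈ fixed D B, ∀ hx : x ∈ perp D e, M.π ⟨x, mem_cent_perp hx⟩ ∈ fixed E Y := fun x hx hxe =>
    ⟨M.mem x hxe, (mem_cen_iff M hodd hB hBe ⟨x, mem_cent_perp hxe⟩).mp hx.2⟩
  let f : ∀ x ∈ fixed D B, x ∈ perp D e → Equiv.Perm (Fin 3) := fun x hx hxe =>
    ι ⟨_, Subgroup.subset_closure (himg x hx hxe)⟩
  have finj : ∀ x (hx : x ∈ fixed D B) (hxe : x ∈ perp D e) y (hy : y ∈ fixed D B) (hye : y ∈ perp D e),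
      f x hx hxe = f y hy hye → x = y := fun x hx hxe y hy hye h =>
    M.inj x hxe y hye (congrArg Subtype.val (ι.injective h))
  have fsq : ∀ x (hx : x ∈ fixed D B) (hxe : x ∈ perp D e), f x hx hxe * f x hx hxe = 1 ∧ f x hx hxe ≠ 1 := by
    intro x hx hxe
    constructor
    · rw [← map_mul, show (⟨_, Subgroup.subset_closure (himg x hx hxe)⟩ : Subgroup.closure (fixed E Y)) *
        ⟨_, Subgroup.subset_closure (himg x hx hxe)⟩ = 1 from Subtype.ext (mul_self hE.1 (M.mem x hxe)), map_one]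
    · intro h
      have h1 := congrArg Subtype.val (ι.injective (h.trans (map_one ι).symm))
      exact ne_one hE.1 (M.mem x hxe) h1
  refine ⟨fun x hx y hy hxe hye hxy => ?_, fun x hx y hy w hw hxe hye hwe hne => ?_, ?_⟩
  · obtain ⟨h1, h1'⟩ := fsq x hx hxe
    obtain ⟨h2, h2'⟩ := fsq y hy hye
    refine finj x hx hxe y hy hye ((involutions_three _ _ _ h1 h1' h2 h2' h2 h2').1 ?_)
    rw [← map_mul, ← map_mul]
    refine congrArg ι (Subtype.ext ?_)
    show M.π _ * M.π _ = M.π _ * M.π _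
    rw [← map_mul, ← map_mul]
    exact congrArg _ (Subtype.ext hxy.eq)
  · have hxyxF : x * y * x ∈ fixed D B := by
      refine ⟨?_, mul_mem (mul_mem hx.2 hy.2) hx.2⟩
      have := hD.2.1 x y hy.1
      rwa [inv_eq hD.1 hx.1] at this
    have hxyx : x * y * x ∈ perp D e := by
      have h := (conj_mem_perp_iff hD x e y).mpr hye
      rwa [show x * e * x⁻¹ = e by rw [← hxe.2.2.eq, mul_inv_cancel_right], inv_eq hD.1 hx.1] at h
    obtain ⟨h1, h1'⟩ := fsq x hx hxe
    obtain ⟨h2, h2'⟩ := fsq y hy hye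
    obtain ⟨h3, h3'⟩ := fsq w hw hwe
    rcases (involutions_three _ _ _ h1 h1' h2 h2' h3 h3').2 (fun h => hne (finj x hx hxe y hy hye h)) with h | h | h
    · exact Or.inl (finj w hw hwe x hx hxe h)
    · exact Or.inr (Or.inl (finj w hw hwe y hy hye h))
    · refine Or.inr (Or.inr (M.inj w hwe (x * y * x) hxyx ?_))
      rw [← map_mul, ← map_mul] at h
      have h' := congrArg Subtype.val (ι.injective h)
      have h'' : M.π ⟨w, mem_cent_perp hwe⟩ =
          M.π ⟨x, mem_cent_perp hxe⟩ * M.π ⟨y, mem_cent_perp hye⟩ * M.π ⟨x, mem_cent_perp hxe⟩ := h'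
      rw [h'', ← map_mul, ← map_mul]
      rfl
  · rw [card_normalizer_inf M hodd hB hBe, ← hsup, card_sup_commute hdis hcom, hH,
      Nat.card_congr ι.toEquiv, Nat.card_perm, Nat.card_fin]
    rfl

/-- type M(24): a Sylow 13-subgroup has order 13 and every fixed transposition has the expected neighbours -/
theorem thirteen_data {G : Type*} [Group G] [Finite G] {D : Set G} (hD : Cfsg.IsThreeTranspositionGroup D)
    (hprim : Cfsg.IsPrimitiveUnderConj D) (h24 : Cfsg.IsOfTypeM24 G D) :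
    Once 13 G ∧ (∃ a ∈ D, ∃ d ∈ D, ¬ Commute a d) ∧
      ∀ B : Subgroup G, Nat.card B = 13 → ∀ e ∈ fixed D B, Near D B e := by
  obtain ⟨Q, iQ, iQ', E, Q₂, i₂, i₂', E₂, F, iF, iF', S22, S23, hM, ⟨S⟩⟩ :=
    FischerMTypes.M24Data.exists_step hD hprim h24
  have P := FischerMTypes.M24Data.pinned S22 S23 hM h24 S
  have P₂ := FischerMTypes.M23Data.pinned S23.hD S23.hprim hM S22 S23
  have hQ : Nat.card Q = 2 ^ 18 * 3 ^ 13 * 5 ^ 2 * 7 * 11 * 13 * 17 * 23 := by
    rw [S23.card_group P₂, S23.ncard_class P₂ (F := 28160) (by norm_num),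
      FischerMTypes.OrderWidth.card_group S22]
    norm_num
  have hn : D.ncard = 306936 := (S.ncard_class P (F := 275264) (by norm_num)).trans (by norm_num)
  have h23 := (FischerMTypes.Thirteen.thirteen_M23 S23.hD S23.hprim hM).2
  refine ⟨once_of_eq (n := 306936 * (2 * Nat.card Q)) (by rw [S.card_group P, hn])
    (m := 306936 * (2 * (2 ^ 18 * 3 ^ 13 * 5 ^ 2 * 7 * 11 * 17 * 23))) (by rw [hQ]; ring) (by norm_num), ?_,
    fun B hB e he => ?_⟩
  · obtain ⟨a, ha⟩ := Set.nonempty_of_ncard_ne_zero (s := D) (by rw [hn]; norm_num)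
    obtain ⟨d, hd⟩ := Set.nonempty_of_ncard_ne_zero (s := FischerMTypes.Seven.farSet D a)
      (by rw [FischerMTypes.Step.StepData.ncard_far S P ha (F := 275264) (by norm_num)]; norm_num)
    exact ⟨a, ha, d, hd.1, hd.2⟩
  · obtain ⟨M⟩ := down_step S P (f := 275264) (by norm_num) (by norm_num) he.1
    exact near_of_down hD S23.hD h23 hB M he

namespace Act

variable {G : Type*} [Group G] [Finite G] {D : Set G} {a d : G} (A : Act D a d)

include A in
/-- an element of order 13 of a pair centraliser commutes with a transposition of the trace -/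
theorem exists_common (hD : Cfsg.IsThreeTranspositionGroup D) {y : G}
    (hy : y ∈ Subgroup.centralizer ({a, d} : Set G)) (ho : orderOf y = 13) :
    ∃ b ∈ perp₂ D a d, Commute b y := by
  have hg : orderOf (⟨y, hy⟩ : ↥(Subgroup.centralizer ({a, d} : Set G))) = 13 :=
    (Subgroup.orderOf_mk y hy).trans ho
  have hl : A.lab ⟨y, hy⟩ = 1 := by
    have h1 := orderOf_map_dvd A.lab (⟨y, hy⟩ : ↥(Subgroup.centralizer ({a, d} : Set G)))
    rw [hg] at h1
    have h2 : orderOf (A.lab ⟨y, hy⟩) ∣ 6 := by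
      have := orderOf_dvd_natCard (A.lab ⟨y, hy⟩)
      rwa [Nat.card_perm, Nat.card_fin] at this
    exact orderOf_eq_one_iff.mp (Nat.dvd_one.mp (by simpa using Nat.dvd_gcd h1 h2))
  obtain ⟨t, ht⟩ := A.eq_pre hl
  rw [ht, orderOf_injective A.pre A.pre_injective] at hg
  obtain ⟨b, hb⟩ := Set.nonempty_of_ncard_ne_zero (s := perp₂ D a d) (by rw [A.count]; norm_num)
  obtain ⟨u, hu⟩ := exists_prime_orderOf_dvd_card' (G := fix (A.act hb)) 13
    (by rw [A.card_fix hD hb]; norm_num)
  rw [← Subgroup.orderOf_coe] at hu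
  have hT : Once 13 T := ⟨by rw [card_T]; norm_num, by rw [card_T]; norm_num⟩
  obtain ⟨g, hgc⟩ := exists_conj hT (X := Subgroup.zpowers (u : T)) (Y := Subgroup.zpowers t)
    (by rw [Nat.card_zpowers, hu]) (by rw [Nat.card_zpowers, hg])
  obtain ⟨v, hv, hvt⟩ : t ∈ (Subgroup.zpowers (u : T)).map (MulAut.conj g).toMonoidHom :=
    hgc ▸ Subgroup.mem_zpowers t
  replace hvt : g * v * g⁻¹ = t := hvt
  have hcv : Commute b (A.pre v : G) := (A.commute_el hb v).2 (Subgroup.zpowers_le.mpr u.2 hv)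
  refine ⟨(A.pre g : G) * b * (A.pre g : G)⁻¹, A.perp_stable hD (A.pre g) hb, ?_⟩
  rw [show y = (A.pre g : G) * (A.pre v : G) * (A.pre g : G)⁻¹ by
    rw [show y = ((A.pre t : ↥(Subgroup.centralizer ({a, d} : Set G))) : G) from congrArg Subtype.val ht,
      ← hvt, map_mul, map_mul, map_inv]
    rfl]
  exact hcv.map (MulAut.conj (A.pre g : G)).toMonoidHom

end Act

theorem common_fixed {G : Type*} [Group G] [Finite G] {D : Set G} (hD : Cfsg.IsThreeTranspositionGroup D)
    {B : Subgroup G} (hB : Nat.card B = 13) {e f : G} (he : e ∈ fixed D B) (hf : f ∈ fixed D B)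
    (A : Act D e f) : ∃ x ∈ fixed D B, x ∈ perp₂ D e f := by
  obtain ⟨y, hy, rfl⟩ := exists_gen hB
  have hyc : y ∈ Subgroup.centralizer ({e, f} : Set G) := by
    rw [Subgroup.mem_centralizer_iff]
    rintro w (rfl | rfl)
    · exact (Subgroup.mem_centralizer_iff.mp he.2 y (Subgroup.mem_zpowers y)).symm
    · exact (Subgroup.mem_centralizer_iff.mp hf.2 y (Subgroup.mem_zpowers y)).symm
  obtain ⟨x, hx, hxy⟩ := A.exists_common hD hyc hy
  refine ⟨x, ⟨hx.1.1, ?_⟩, hx⟩
  rw [SetLike.mem_coe, centralizer_zpowers, Subgroup.mem_centralizer_singleton_iff]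
  exact hxy.eq

/-- two commuting pairs generating two symmetric groups of degree three -/
structure Quad {G : Type*} [Group G] (D : Set G) (a d b c : G) : Prop where
  ha : a ∈ D
  hd : d ∈ D
  hnc : ¬ Commute a d
  hb : b ∈ perp₂ D a d
  hc : c ∈ perp₂ D a d
  hbc : ¬ Commute b c

namespace Quad

variable {G : Type*} [Group G] [Finite G] {D : Set G} {a d b c : G} (H : Quad D a d b c)
  (hD : Cfsg.IsThreeTranspositionGroup D)

include H hD

theorem third_left : a * d * a ∈ D ∧ a * d * a ≠ a ∧ a * d * a ≠ d ∧ ¬ Commute a (a * d * a) := by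
  have hi := inv_eq hD.1 H.ha
  have h0 : a * d * a = a * d * a⁻¹ := by rw [hi]
  have hnc : ¬ Commute a (a * d * a) := by
    intro h
    rw [h0] at h
    refine H.hnc ?_
    have := h.map (MulAut.conj a⁻¹).toMonoidHom
    simpa [mul_assoc] using this
  refine ⟨h0 ▸ hD.2.1 a d H.hd, fun h => hnc (by rw [h]), fun h => ?_, hnc⟩
  rw [h0, mul_inv_eq_iff_eq_mul] at h
  exact H.hnc h

theorem symm_pair : Quad D b c a d :=
  ⟨H.hb.1.1, H.hc.1.1, H.hbc, ⟨⟨H.ha, H.hb.1.2.1.symm, H.hb.1.2.2.symm⟩, ⟨H.ha, H.hc.1.2.1.symm, H.hc.1.2.2.symm⟩⟩,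
    ⟨⟨H.hd, H.hb.2.2.1.symm, H.hb.2.2.2.symm⟩, ⟨H.hd, H.hc.2.2.1.symm, H.hc.2.2.2.symm⟩⟩, H.hnc⟩

theorem block_perp {x : G} (hx : x = b ∨ x = c ∨ x = b * c * b) : x ∈ perp₂ D a d := by
  rcases hx with rfl | rfl | rfl
  · exact H.hb
  · exact H.hc
  · have key : ∀ {e : G}, b ∈ perp D e → c ∈ perp D e → b * c * b ∈ perp D e := by
      intro e h1 h2
      have h := (conj_mem_perp_iff hD b e c).mpr h2
      rwa [show b * e * b⁻¹ = e by rw [← h1.2.2.eq, mul_inv_cancel_right], inv_eq hD.1 H.hb.1.1] at h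
    exact ⟨key H.hb.1 H.hc.1, key H.hb.2 H.hc.2⟩

theorem card_four : Nat.card ↥(Subgroup.closure ({a, b, c, d} : Set G)) = 36 ∧
    Subgroup.closure ({a, b, c, d} : Set G) ⊓ Subgroup.centralizer ({a, b, c, d} : Set G) = ⊥ := by
  have hb' := H.hb.1.1
  have hc' := H.hc.1.1
  set S₁ := Subgroup.closure ({a, d} : Set G) with hS₁
  set S₂ := Subgroup.closure ({b, c} : Set G) with hS₂
  have e : Subgroup.closure ({a, b, c, d} : Set G) = S₁ ⊔ S₂ := by
    rw [hS₁, hS₂, ← Subgroup.closure_union]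
    congr 1
    ext u
    simp only [Set.mem_union, Set.mem_insert_iff, Set.mem_singleton_iff]
    tauto
  have h2 : S₂ ≤ Subgroup.centralizer ({a, d} : Set G) := (Subgroup.closure_le _).mpr (by
    rintro u (rfl | rfl) <;> rw [SetLike.mem_coe, Subgroup.mem_centralizer_iff] <;> rintro w (rfl | rfl)
    exacts [H.hb.1.2.2.eq, H.hb.2.2.2.eq, H.hc.1.2.2.eq, H.hc.2.2.2.eq])
  have h1 : S₁ ≤ Subgroup.centralizer ({b, c} : Set G) := (Subgroup.closure_le _).mpr (by
    rintro u (rfl | rfl) <;> rw [SetLike.mem_coe, Subgroup.mem_centralizer_iff] <;> rintro w (rfl | rfl)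
    exacts [H.hb.1.2.2.eq.symm, H.hc.1.2.2.eq.symm, H.hb.2.2.2.eq.symm, H.hc.2.2.2.eq.symm])
  have hI₁ := FischerMTypes.StepPair.inf_eq_bot hD H.ha H.hd H.hnc
  have hI₂ := FischerMTypes.StepPair.inf_eq_bot hD hb' hc' H.hbc
  have hdis : S₁ ⊓ S₂ = ⊥ := le_antisymm ((inf_le_inf_left S₁ h2).trans hI₁.le) bot_le
  have hcom : ∀ x ∈ S₁, ∀ y ∈ S₂, x * y = y * x := fun x hx y hy =>
    FischerMTypes.StepPair.commute_of_mem hx (h2 hy)
  rw [e]
  constructor
  · obtain ⟨ι⟩ := FischerMTypes.StepPair.pair_iso hD H.ha H.hd H.hnc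
    obtain ⟨κ⟩ := FischerMTypes.StepPair.pair_iso hD hb' hc' H.hbc
    rw [card_sup_commute hdis hcom, Nat.card_congr ι.toEquiv, Nat.card_congr κ.toEquiv, Nat.card_perm,
      Nat.card_fin]
    rfl
  · rw [Subgroup.eq_bot_iff_forall]
    intro z hz'
    obtain ⟨hz, hzc⟩ := Subgroup.mem_inf.mp hz'
    rw [← SetLike.mem_coe] at hz
    have hle : S₁ ≤ Subgroup.normalizer (S₂ : Set G) := fun u hu => Subgroup.centralizer_le_normalizer _
      (Subgroup.mem_centralizer_iff.mpr fun w hw => (hcom u hu w hw).symm)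
    rw [Subgroup.coe_mul_of_left_le_normalizer_right _ _ hle] at hz
    obtain ⟨u, hu, v, hv, rfl⟩ := hz
    have hzad : u * v ∈ Subgroup.centralizer ({a, d} : Set G) :=
      Subgroup.centralizer_le (by rintro w (rfl | rfl) <;> simp) hzc
    have hzbc : u * v ∈ Subgroup.centralizer ({b, c} : Set G) :=
      Subgroup.centralizer_le (by rintro w (rfl | rfl) <;> simp) hzc
    have hu1 : u = 1 := by
      have : u ∈ S₁ ⊓ Subgroup.centralizer ({a, d} : Set G) :=
        ⟨hu, (Subgroup.mul_mem_cancel_right _ (h2 hv)).mp hzad⟩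
      rwa [hI₁, Subgroup.mem_bot] at this
    have hv1 : v = 1 := by
      have : v ∈ S₂ ⊓ Subgroup.centralizer ({b, c} : Set G) :=
        ⟨hv, (Subgroup.mul_mem_cancel_left _ (h1 hu)).mp hzbc⟩
      rwa [hI₂, Subgroup.mem_bot] at this
    show u * v = 1
    rw [hu1, hv1, one_mul]

variable {B : Subgroup G} (hB : Nat.card B = 13) (hBK : B ≤ Subgroup.centralizer ({a, b, c, d} : Set G))

include hBK

theorem mem_fixed {x : G} (hx : x = a ∨ x = d ∨ x = a * d * a ∨ x = b ∨ x = c ∨ x = b * c * b) :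
    x ∈ fixed D B := by
  have key : ∀ u, u ∈ ({a, b, c, d} : Set G) → u ∈ Subgroup.centralizer (B : Set G) := fun u hu =>
    Subgroup.mem_centralizer_iff.mpr fun w hw => (Subgroup.mem_centralizer_iff.mp (hBK hw) u hu).symm
  have hA : a ∈ Subgroup.centralizer (B : Set G) := key a (by simp)
  have hD' : d ∈ Subgroup.centralizer (B : Set G) := key d (by simp)
  have hB' : b ∈ Subgroup.centralizer (B : Set G) := key b (by simp)
  have hC' : c ∈ Subgroup.centralizer (B : Set G) := key c (by simp)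
  rcases hx with rfl | rfl | rfl | rfl | rfl | rfl
  · exact ⟨H.ha, hA⟩
  · exact ⟨H.hd, hD'⟩
  · exact ⟨(H.third_left hD).1, mul_mem (mul_mem hA hD') hA⟩
  · exact ⟨H.hb.1.1, hB'⟩
  · exact ⟨H.hc.1.1, hC'⟩
  · exact ⟨((H.symm_pair hD).third_left hD).1, mul_mem (mul_mem hB' hC') hB'⟩

variable (hnear : ∀ e ∈ fixed D B, Near D B e)
  (hact : ∀ e ∈ D, ∀ f ∈ D, ¬ Commute e f → Nonempty (Act D e f))

include hB hnear hact

/-- the fixed transpositions are the six of the two pairs -/
theorem fixed_eq : fixed D B = ({a, d, a * d * a} : Set G) ∪ {b, c, b * c * b} := by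
  refine Set.Subset.antisymm (fun w hw => ?_) ?_
  · have haF := H.mem_fixed hD hBK (Or.inl (rfl : a = a))
    have hsec : ∀ u ∈ fixed D B, u ∈ perp D a → u = b ∨ u = c ∨ u = b * c * b := fun u hu hua =>
      (hnear a haF).three b (H.mem_fixed hD hBK (by tauto)) c (H.mem_fixed hD hBK (by tauto)) u hu H.hb.1 H.hc.1
        hua fun h => H.hbc (by rw [h])
    by_cases hwa : w = a
    · exact Or.inl (by simp [hwa])
    by_cases hcw : Commute a w
    · rcases hsec w hw ⟨hw.1, hwa, hcw⟩ with h | h | h <;> exact Or.inr (by simp [h])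
    obtain ⟨A'⟩ := hact a H.ha w hw.1 hcw
    obtain ⟨x, hx, hxp⟩ := common_fixed hD hB haF hw A'
    have hxs := hsec x hx hxp.1
    have hxq := H.block_perp hD hxs
    rcases (hnear x hx).three a haF d (H.mem_fixed hD hBK (by tauto)) w hw
      ⟨H.ha, hxq.1.2.1.symm, hxq.1.2.2.symm⟩ ⟨H.hd, hxq.2.2.1.symm, hxq.2.2.2.symm⟩
      ⟨hw.1, hxp.2.2.1.symm, hxp.2.2.2.symm⟩ (fun h => H.hnc (by rw [h])) with h | h | h <;>
      exact Or.inl (by simp [h])
  · rintro x ((rfl | rfl | rfl) | (rfl | rfl | rfl)) <;> exact H.mem_fixed hD hBK (by tauto)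

theorem ncard_fixed : (fixed D B).ncard = 6 := by
  obtain ⟨-, h1, h2, h3⟩ := H.third_left hD
  obtain ⟨-, h1', h2', -⟩ := (H.symm_pair hD).third_left hD
  rw [H.fixed_eq hD hB hBK hnear hact, Set.ncard_union_eq ?_,
    Set.ncard_eq_three.mpr ⟨a, d, a * d * a, fun h => H.hnc (by rw [h]), h1.symm, h2.symm, rfl⟩,
    Set.ncard_eq_three.mpr ⟨b, c, b * c * b, fun h => H.hbc (by rw [h]), h1'.symm, h2'.symm, rfl⟩]
  rw [Set.disjoint_left]
  rintro x hx hx'
  have hp := (H.block_perp hD (by simpa using hx')).1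
  rcases hx with rfl | rfl | rfl
  · exact hp.2.1 rfl
  · exact H.hnc hp.2.2
  · exact h3 hp.2.2

variable (hG : Once 13 G) (hprim : Cfsg.IsPrimitiveUnderConj D)

include hG hprim

theorem card_normalizer : Nat.card (Subgroup.normalizer (B : Set G)) = 5616 := by
  have ha := H.mem_fixed hD hBK (Or.inl (rfl : a = a))
  have h := ncard_fixed_mul (H := (⊤ : Subgroup G)) hG hB le_top (fun g _ y hy => hD.2.1 g y hy)
    (fun x hx y hy => (hprim.1 x hx y hy).imp fun g hg => ⟨trivial, hg⟩) H.ha ha.2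
  simp only [inf_top_eq] at h
  rw [h, show {y | y ∈ D ∧ y ∈ Subgroup.centralizer (B : Set G)}.ncard = 6 from
    H.ncard_fixed hD hB hBK hnear hact, (hnear a ha).card]

/-- the normaliser of a subgroup of order 13 of the centraliser of the four -/
theorem normalizer_facts {T K : Subgroup G} (hT : T = Subgroup.closure ({a, b, c, d} : Set G))
    (hK : K = Subgroup.centralizer (T : Set G))
    (hKB : K ⊓ Subgroup.centralizer (B : Set G) = B) :
    Subgroup.normalizer (B : Set G) ≤ Subgroup.normalizer (K : Set G) ∧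
      Nat.card ↥(K ⊓ Subgroup.normalizer (B : Set G)) = 78 ∧
      (((K ⊓ Subgroup.normalizer (B : Set G)) ⊔ T).subgroupOf (Subgroup.normalizer (B : Set G))).index = 2 := by
  have hK4 : K = Subgroup.centralizer ({a, b, c, d} : Set G) := by
    rw [hK, hT, Subgroup.centralizer_closure]
  have hF := H.fixed_eq hD hB hBK hnear hact
  have hFT : fixed D B ⊆ (T : Set G) := by
    rw [hT, hF]
    rintro x ((rfl | rfl | rfl) | (rfl | rfl | rfl))
    exacts [Subgroup.subset_closure (by simp), Subgroup.subset_closure (by simp),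
      mul_mem (mul_mem (Subgroup.subset_closure (by simp)) (Subgroup.subset_closure (by simp)))
        (Subgroup.subset_closure (by simp)),
      Subgroup.subset_closure (by simp), Subgroup.subset_closure (by simp),
      mul_mem (mul_mem (Subgroup.subset_closure (by simp)) (Subgroup.subset_closure (by simp)))
        (Subgroup.subset_closure (by simp))]
  have hTC : T ≤ Subgroup.centralizer (B : Set G) := by
    rw [hT, Subgroup.closure_le]
    rintro x (rfl | rfl | rfl | rfl) <;> exact (H.mem_fixed hD hBK (by tauto)).2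
  set N := Subgroup.normalizer (B : Set G) with hN
  have hTN : T ≤ N := hTC.trans (Subgroup.centralizer_le_normalizer _)
  have hNK : N ≤ Subgroup.normalizer (K : Set G) := fun g hg => mem_normalizer_of_conj fun h hh => by
    rw [hK4, Subgroup.mem_centralizer_iff]
    intro u hu
    have hu' : u ∈ fixed D B := by
      rcases hu with rfl | rfl | rfl | rfl <;> exact H.mem_fixed hD hBK (by tauto)
    have h1 := normalizer_conj_fixed hD.2.1 (inv_mem hg) hu'
    rw [inv_inv] at h1
    rw [hK] at hh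
    have h2 := Subgroup.mem_centralizer_iff.mp hh _ (hFT h1)
    calc u * (g * h * g⁻¹) = g * ((g⁻¹ * u * g) * h) * g⁻¹ := by group
      _ = g * (h * (g⁻¹ * u * g)) * g⁻¹ := by rw [h2]
      _ = g * h * g⁻¹ * u := by group
  refine ⟨hNK, ?_⟩
  set R := K ⊓ N with hR
  -- R has order dividing 156
  have hBR : B ≤ R := le_inf (hK4 ▸ hBK) Subgroup.le_normalizer
  have hdvd : Nat.card R ∣ 12 * 13 := by
    have hcyc : IsCyclic B := isCyclic_of_prime_card hB
    let f : R →* MulAut B :=
      (Subgroup.normalizerMonoidHom B).comp (Subgroup.inclusion (inf_le_right : R ≤ N))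
    have hker : f.ker ≤ B.subgroupOf R := fun z hz => by
      rw [Subgroup.mem_subgroupOf, ← hKB]
      refine ⟨(Subgroup.mem_inf.mp z.2).1, ?_⟩
      have hz' : (Subgroup.inclusion (inf_le_right : R ≤ N) z) ∈ (Subgroup.normalizerMonoidHom B).ker := hz
      rw [Subgroup.normalizerMonoidHom_ker] at hz'
      exact hz'
    rw [Subgroup.card_eq_card_quotient_mul_card_subgroup f.ker,
      Nat.card_congr (QuotientGroup.quotientKerEquivRange f).toEquiv]
    refine mul_dvd_mul ?_ ((Subgroup.card_dvd_of_le hker).trans (dvd_of_eq ?_))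
    · have := Subgroup.card_subgroup_dvd_card f.range
      rwa [IsCyclic.card_mulAut, hB, Nat.totient_prime (by norm_num)] at this
    · rw [Nat.card_congr (Subgroup.subgroupOfEquivOfLe hBR).toEquiv, hB]
  -- and at least 78
  have hge : 78 ≤ Nat.card R := by
    have ha := H.mem_fixed hD hBK (Or.inl (rfl : a = a))
    obtain ⟨-, h1, h2, h3⟩ := H.third_left hD
    have conj_fix : ∀ {n x y : G}, n * x * n⁻¹ = x → Commute x y → Commute x (n * y * n⁻¹) := fun {n x y} h hc =>
      h ▸ hc.map (MulAut.conj n).toMonoidHom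
    have cent : ∀ {n x : G}, n ∈ Subgroup.centralizer ({x} : Set G) → n * x * n⁻¹ = x := fun {n x} hn => by
      rw [Subgroup.mem_centralizer_singleton_iff.mp hn, mul_inv_cancel_right]
    set N₁ := N ⊓ Subgroup.centralizer ({a} : Set G) with hN₁
    set N₂ := N₁ ⊓ Subgroup.centralizer ({d} : Set G) with hN₂
    set N₃ := N₂ ⊓ Subgroup.centralizer ({b} : Set G) with hN₃
    have e1 : Nat.card N₁ = 936 := (hnear a ha).card
    have e2 : Nat.card N₁ ≤ 2 * Nat.card N₂ := by
      refine (card_le_orbit_mul (O := ({d, a * d * a} : Set G)) (x := d) fun n hn => ?_).trans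
        (Nat.mul_le_mul_right _ (Set.ncard_pair h2.symm).le)
      have hF' := normalizer_conj_fixed hD.2.1 (Subgroup.mem_inf.mp hn).1
        (H.mem_fixed hD hBK (show d = a ∨ _ by tauto))
      have hca := cent (Subgroup.mem_inf.mp hn).2
      have hne : ¬ Commute a (n * d * n⁻¹) := fun h => H.hnc (by
        have := conj_fix (n := n⁻¹) (x := a) (y := n * d * n⁻¹) (by
          rw [inv_inv]; nth_rw 1 [← hca]; group) h
        simpa [mul_assoc] using this)
      rw [hF] at hF'
      rcases hF' with (h | h | h) | h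
      · exact absurd (h ▸ Commute.refl a) hne
      · exact Or.inl h
      · exact Or.inr h
      · exact absurd (H.block_perp hD (by simpa using h)).1.2.2 hne
    have blockB : ∀ {n x : G}, n ∈ N₂ → (x = b ∨ x = c) →
        n * x * n⁻¹ = b ∨ n * x * n⁻¹ = c ∨ n * x * n⁻¹ = b * c * b := by
      intro n x hn hx
      have hn1 := (Subgroup.mem_inf.mp hn).1
      have hF' := normalizer_conj_fixed hD.2.1 (Subgroup.mem_inf.mp hn1).1
        (H.mem_fixed hD hBK (show x = a ∨ _ by tauto))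
      have hp := H.block_perp hD (show x = b ∨ x = c ∨ x = b * c * b by tauto)
      have hp' := (conj_mem_perp_iff hD n a x).mpr hp.1
      rw [cent (Subgroup.mem_inf.mp hn1).2] at hp'
      exact (hnear a ha).three b (H.mem_fixed hD hBK (by tauto)) c (H.mem_fixed hD hBK (by tauto)) _ hF'
        H.hb.1 H.hc.1 hp' fun h => H.hbc (by rw [h])
    have e3 : Nat.card N₂ ≤ 3 * Nat.card N₃ := by
      refine (card_le_orbit_mul (O := ({b, c, b * c * b} : Set G)) (x := b) fun n hn => ?_).trans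
        (Nat.mul_le_mul_right _ ?_)
      · simpa using blockB hn (Or.inl rfl)
      · obtain ⟨-, h1', h2', -⟩ := (H.symm_pair hD).third_left hD
        exact (Set.ncard_eq_three.mpr ⟨b, c, b * c * b, fun h => H.hbc (by rw [h]), h1'.symm, h2'.symm, rfl⟩).le
    have e4 : Nat.card N₃ ≤ 2 * Nat.card R := by
      have hle : N₃ ⊓ Subgroup.centralizer ({c} : Set G) ≤ R := fun n hn => by
        simp only [hN₃, hN₂, hN₁, Subgroup.mem_inf, Subgroup.mem_centralizer_singleton_iff] at hn
        refine Subgroup.mem_inf.mpr ⟨?_, hn.1.1.1.1⟩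
        rw [hK4, Subgroup.mem_centralizer_iff]
        rintro u (rfl | rfl | rfl | rfl)
        exacts [hn.1.1.1.2.symm, hn.1.2.symm, hn.2.symm, hn.1.1.2.symm]
      obtain ⟨-, h1', h2', -⟩ := (H.symm_pair hD).third_left hD
      refine (card_le_orbit_mul (O := ({c, b * c * b} : Set G)) (x := c) fun n hn => ?_).trans
        (Nat.mul_le_mul (Set.ncard_pair h2'.symm).le (Subgroup.card_le_of_le hle))
      rcases blockB (Subgroup.mem_inf.mp hn).1 (Or.inr rfl : c = b ∨ c = c) with h | h | h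
      · exfalso
        have hcb := cent (Subgroup.mem_inf.mp hn).2
        exact H.hbc (by rw [show c = b from mul_left_cancel (mul_right_cancel (h.trans hcb.symm))])
      · exact Or.inl h
      · exact Or.inr h
    omega
  -- the product with T
  obtain ⟨hT36, hTK⟩ := H.card_four hD
  rw [← hT, ← hK4] at hTK
  rw [← hT] at hT36
  have hdis : R ⊓ T = ⊥ := le_antisymm (((inf_comm R T).le.trans (inf_le_inf_left T inf_le_left)).trans hTK.le) bot_le
  have hcomm : ∀ x ∈ R, ∀ y ∈ T, x * y = y * x := fun x hx y hy => by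
    have hx' := (Subgroup.mem_inf.mp hx).1
    rw [hK] at hx'
    exact (Subgroup.mem_centralizer_iff.mp hx' y hy).symm
  have hcard := card_sup_commute hdis hcomm
  rw [hT36] at hcard
  have hle : R ⊔ T ≤ N := sup_le inf_le_right hTN
  have hN5 := H.card_normalizer hD hB hBK hnear hact hG hprim
  have h156 : Nat.card R ≠ 156 := by
    intro h
    have heq : R ⊔ T = N := Subgroup.eq_of_le_of_card_ge hle (by rw [hcard, h, hN5])
    obtain ⟨g, hg⟩ := hprim.1 a H.ha b H.hb.1.1
    have hle' : ∀ x, x = a ∨ x = b → B ≤ ⊤ ⊓ Subgroup.centralizer ({x} : Set G) := fun x hx u hu =>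
      Subgroup.mem_inf.mpr ⟨trivial, Subgroup.mem_centralizer_singleton_iff.mpr
        (Subgroup.mem_centralizer_iff.mp (H.mem_fixed hD hBK (show x = a ∨ _ by tauto)).2 u hu)⟩
    obtain ⟨n, hn, hnab⟩ := exists_normalizer_move' (H := (⊤ : Subgroup G)) hB
      (once_subgroup hG (hB ▸ Subgroup.card_dvd_of_le (hle' b (Or.inr rfl)))) (hle' a (Or.inl rfl))
      (hle' b (Or.inr rfl)) (Subgroup.mem_top g) hg
    set S₁ := Subgroup.closure ({a, d} : Set G)
    have hT1 : R ⊔ T ≤ Subgroup.normalizer (S₁ : Set G) := by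
      refine sup_le (fun r hr => ?_) (hT ▸ (Subgroup.closure_le _).mpr ?_)
      · refine Subgroup.centralizer_le_normalizer _ (Subgroup.mem_centralizer_iff.mpr fun w hw => ?_)
        refine (hcomm r hr w (hT ▸ Subgroup.closure_mono ?_ hw)).symm
        rintro u (rfl | rfl) <;> simp
      · rintro x (rfl | rfl | rfl | rfl)
        · exact Subgroup.le_normalizer (Subgroup.subset_closure (by simp))
        · exact Subgroup.centralizer_le_normalizer _ (Subgroup.mem_centralizer_iff.mpr fun w hw =>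
            FischerMTypes.StepPair.commute_of_mem hw (Subgroup.mem_centralizer_iff.mpr (by
              rintro u (rfl | rfl); exacts [H.hb.1.2.2.eq, H.hb.2.2.2.eq])))
        · exact Subgroup.centralizer_le_normalizer _ (Subgroup.mem_centralizer_iff.mpr fun w hw =>
            FischerMTypes.StepPair.commute_of_mem hw (Subgroup.mem_centralizer_iff.mpr (by
              rintro u (rfl | rfl); exacts [H.hc.1.2.2.eq, H.hc.2.2.2.eq])))
        · exact Subgroup.le_normalizer (Subgroup.subset_closure (by simp))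
    have hbS : b ∈ S₁ := hnab ▸ (Subgroup.mem_normalizer_iff.mp
      (hT1 (heq ▸ (Subgroup.mem_inf.mp hn).1)) a).mp (Subgroup.subset_closure (by simp))
    have hbI : b ∈ S₁ ⊓ Subgroup.centralizer ({a, d} : Set G) := ⟨hbS, Subgroup.mem_centralizer_iff.mpr (by
      rintro u (rfl | rfl); exacts [H.hb.1.2.2.eq, H.hb.2.2.2.eq])⟩
    rw [FischerMTypes.StepPair.inf_eq_bot hD H.ha H.hd H.hnc, Subgroup.mem_bot] at hbI
    exact ne_one hD.1 H.hb.1.1 hbI
  have h78 : Nat.card R = 78 := by
    obtain ⟨j, hj⟩ := hdvd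
    rcases le_or_gt 3 j with hj3 | hj3
    · nlinarith
    · interval_cases j <;> omega
  refine ⟨h78, ?_⟩
  have h := Subgroup.card_mul_index ((R ⊔ T).subgroupOf N)
  rw [Nat.card_congr (Subgroup.subgroupOfEquivOfLe hle).toEquiv, hcard, h78, hN5] at h
  omega

end Quad

end Cfsg.Agent.Lib.FischerMTypes83.Triality
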